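import Mathlib
import Cfsg.Agent.H93.CI.Orbits
import Cfsg.Agent.H93.CI.Fix
import Cfsg.Agent.H93.ON.Tab.Data
import Cfsg.Agent.H93.ON.Orb.Data

/-!
Orbits of the subgroup (generated data).
-/

set_option autoImplicit false
set_option maxRecDepth 100000
set_option linter.all false
set_option Elab.async false

namespace H93
namespace ON
namespace Orb

open CosetI

noncomputable section

theorem ok_0 : orbOK Tab.data orb base 6 0 12276 = true := by decide +kernel

theorem ok_1 : orbOK Tab.data orb base 6 12276 12276 = true := by decide +kernel

theorem ok_2 : orbOK Tab.data orb base 6 24552 12276 = true := by decide +kernel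

theorem ok_3 : orbOK Tab.data orb base 6 36828 12276 = true := by decide +kernel

theorem ok_4 : orbOK Tab.data orb base 6 49104 12276 = true := by decide +kernel

theorem ok_5 : orbOK Tab.data orb base 6 61380 12276 = true := by decide +kernel

theorem ok_6 : orbOK Tab.data orb base 6 73656 12276 = true := by decide +kernel

theorem ok_7 : orbOK Tab.data orb base 6 85932 12276 = true := by decide +kernel

theorem ok_8 : orbOK Tab.data orb base 6 98208 12276 = true := by decide +kernel

theorem ok_9 : orbOK Tab.data orb base 6 110484 12276 = true := by decide +kernel

theorem nodes : ∀ c < Tab.data.n, orbNode Tab.data orb base 6 c (orb c) = true := fun c hc => by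
  have := allRange_spec (allRange_glue (allRange_glue (allRange_glue (allRange_glue (allRange_glue (allRange_glue (allRange_glue (allRange_glue (allRange_glue ok_0 ok_1) ok_2) ok_3) ok_4) ok_5) ok_6) ok_7) ok_8) ok_9) c (Nat.zero_le c) (by have : c < 122760 := hc; omega)
  rwa [force_eq] at this


end

end Orb
end ON
end H93
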