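import Mathlib
import Cfsg.Agent.H93.CI.Orbits
import Cfsg.Agent.H93.ON.Orb.Data

/-!
Orbits of the subgroup (generated data).
-/

set_option autoImplicit false
set_option maxRecDepth 100000
set_option linter.all false
set_option Elab.async false

namespace H93
namespace ON
namespace Orb

open CosetI

noncomputable section

theorem cnt1_0 : orbCount orb 1 0 12276 = 5606 := by decide +kernel

theorem cnt1_1 : orbCount orb 1 12276 12276 = 5236 := by decide +kernel

theorem cnt1_2 : orbCount orb 1 24552 12276 = 5269 := by decide +kernel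

theorem cnt1_3 : orbCount orb 1 36828 12276 = 5346 := by decide +kernel

theorem cnt1_4 : orbCount orb 1 49104 12276 = 5725 := by decide +kernel

theorem cnt1_5 : orbCount orb 1 61380 12276 = 5880 := by decide +kernel

theorem cnt1_6 : orbCount orb 1 73656 12276 = 5605 := by decide +kernel

theorem cnt1_7 : orbCount orb 1 85932 12276 = 6270 := by decide +kernel

theorem cnt1_8 : orbCount orb 1 98208 12276 = 6445 := by decide +kernel

theorem cnt1_9 : orbCount orb 1 110484 12276 = 7271 := by decide +kernel

theorem count1 : orbCount orb 1 0 122760 = 58653 := by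
  rw [show (122760 : ℕ) = 12276 + 12276 + 12276 + 12276 + 12276 + 12276 + 12276 + 12276 + 12276 + 12276 from rfl]
  simp only [orbCount_glue]
  norm_num [cnt1_0, cnt1_1, cnt1_2, cnt1_3, cnt1_4, cnt1_5, cnt1_6, cnt1_7, cnt1_8, cnt1_9]

theorem cnt2_0 : orbCount orb 2 0 12276 = 5054 := by decide +kernel

theorem cnt2_1 : orbCount orb 2 12276 12276 = 5811 := by decide +kernel

theorem cnt2_2 : orbCount orb 2 24552 12276 = 5736 := by decide +kernel

theorem cnt2_3 : orbCount orb 2 36828 12276 = 5758 := by decide +kernel

theorem cnt2_4 : orbCount orb 2 49104 12276 = 5371 := by decide +kernel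

theorem cnt2_5 : orbCount orb 2 61380 12276 = 5285 := by decide +kernel

theorem cnt2_6 : orbCount orb 2 73656 12276 = 5340 := by decide +kernel

theorem cnt2_7 : orbCount orb 2 85932 12276 = 4890 := by decide +kernel

theorem cnt2_8 : orbCount orb 2 98208 12276 = 4780 := by decide +kernel

theorem cnt2_9 : orbCount orb 2 110484 12276 = 4111 := by decide +kernel

theorem count2 : orbCount orb 2 0 122760 = 52136 := by
  rw [show (122760 : ℕ) = 12276 + 12276 + 12276 + 12276 + 12276 + 12276 + 12276 + 12276 + 12276 + 12276 from rfl]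
  simp only [orbCount_glue]
  norm_num [cnt2_0, cnt2_1, cnt2_2, cnt2_3, cnt2_4, cnt2_5, cnt2_6, cnt2_7, cnt2_8, cnt2_9]

theorem cnt3_0 : orbCount orb 3 0 12276 = 600 := by decide +kernel

theorem cnt3_1 : orbCount orb 3 12276 12276 = 618 := by decide +kernel

theorem cnt3_2 : orbCount orb 3 24552 12276 = 631 := by decide +kernel

theorem cnt3_3 : orbCount orb 3 36828 12276 = 613 := by decide +kernel

theorem cnt3_4 : orbCount orb 3 49104 12276 = 451 := by decide +kernel

theorem cnt3_5 : orbCount orb 3 61380 12276 = 554 := by decide +kernel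

theorem cnt3_6 : orbCount orb 3 73656 12276 = 577 := by decide +kernel

theorem cnt3_7 : orbCount orb 3 85932 12276 = 466 := by decide +kernel

theorem cnt3_8 : orbCount orb 3 98208 12276 = 527 := by decide +kernel

theorem cnt3_9 : orbCount orb 3 110484 12276 = 549 := by decide +kernel

theorem count3 : orbCount orb 3 0 122760 = 5586 := by
  rw [show (122760 : ℕ) = 12276 + 12276 + 12276 + 12276 + 12276 + 12276 + 12276 + 12276 + 12276 + 12276 from rfl]
  simp only [orbCount_glue]
  norm_num [cnt3_0, cnt3_1, cnt3_2, cnt3_3, cnt3_4, cnt3_5, cnt3_6, cnt3_7, cnt3_8, cnt3_9]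

theorem cnt4_0 : orbCount orb 4 0 12276 = 1015 := by decide +kernel

theorem cnt4_1 : orbCount orb 4 12276 12276 = 611 := by decide +kernel

theorem cnt4_2 : orbCount orb 4 24552 12276 = 640 := by decide +kernel

theorem cnt4_3 : orbCount orb 4 36828 12276 = 559 := by decide +kernel

theorem cnt4_4 : orbCount orb 4 49104 12276 = 729 := by decide +kernel

theorem cnt4_5 : orbCount orb 4 61380 12276 = 557 := by decide +kernel

theorem cnt4_6 : orbCount orb 4 73656 12276 = 754 := by decide +kernel

theorem cnt4_7 : orbCount orb 4 85932 12276 = 650 := by decide +kernel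

theorem cnt4_8 : orbCount orb 4 98208 12276 = 524 := by decide +kernel

theorem cnt4_9 : orbCount orb 4 110484 12276 = 345 := by decide +kernel

theorem count4 : orbCount orb 4 0 122760 = 6384 := by
  rw [show (122760 : ℕ) = 12276 + 12276 + 12276 + 12276 + 12276 + 12276 + 12276 + 12276 + 12276 + 12276 from rfl]
  simp only [orbCount_glue]
  norm_num [cnt4_0, cnt4_1, cnt4_2, cnt4_3, cnt4_4, cnt4_5, cnt4_6, cnt4_7, cnt4_8, cnt4_9]


end

end Orb
end ON
end H93
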